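import Groth.Agent.InvGlue.Local
import Groth.Agent.InvPow.Locus

/-!
# Extending invertible modules across discrete points of dimension `≤ 1`

`exists_extend_invertible`, `exists_section_genLocus`.
-/

universe u

open CategoryTheory CategoryTheory.Limits AlgebraicGeometry Opposite TopologicalSpace

set_option backward.isDefEq.respectTransparency false

namespace Groth.Agent.InvGlue

open Groth.Agent.InvBasic Groth.Agent.QCohLib

variable {X : Scheme.{u}}

/-- `P = ι_* N` has sections determined on `U`. -/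
theorem pushforward_pres_bijective (U : X.Opens) (N : (U : Scheme.{u}).Modules) (W : X.Opens) :
    Function.Bijective (pres ((Scheme.Modules.pushforward U.ι).obj N) (inf_le_left : W ⊓ U ≤ W)) := by
  change Function.Bijective (pres N (U.ι.preimage_mono (inf_le_left : W ⊓ U ≤ W)))
  have h : U.ι ⁻¹ᵁ W ≤ U.ι ⁻¹ᵁ (W ⊓ U) := fun y hy => ⟨hy, y.2⟩
  refine Function.bijective_iff_has_inverse.mpr ⟨pres N h, fun s => ?_, fun s => ?_⟩
  · rw [pres_pres, pres_self]
  · rw [pres_pres, pres_self]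

theorem app_bijective_of_le (U : X.Opens) {W : X.Opens} (h : W ≤ U) :
    Function.Bijective (U.ι.app W) := by
  have : IsIso (U.ι.app W) := U.ι.isIso_app W (by rwa [Scheme.Opens.opensRange_ι])
  exact ConcreteCategory.bijective_of_isIso (U.ι.app W)

theorem isBasis_pushforward {U : X.Opens} {N : (U : Scheme.{u}).Modules} {W : X.Opens} (hW : W ≤ U)
    {σ : Γ(N, U.ι ⁻¹ᵁ W)} (hσ : IsBasis N σ) :
    IsBasis ((Scheme.Modules.pushforward U.ι).obj N)
      (show Γ((Scheme.Modules.pushforward U.ι).obj N, W) from σ) := fun W' hW' => by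
  have h := (hσ (U.ι ⁻¹ᵁ W') (U.ι.preimage_mono hW')).comp (app_bijective_of_le U (hW'.trans hW))
  exact h

section Glued

variable (P : X.Modules) (U : X.Opens) {ι : Type u} (V : ι → X.Opens) (ℓ : ∀ i, Γ(P, V i ⊓ U))

/-- Two pairs on `V i` with the same `i`-th coefficient are equal. -/
theorem ext_of_snd (hℓ : ∀ i, IsBasis P (ℓ i)) (hdisj : ∀ i j, i ≠ j → V i ⊓ V j ≤ U)
    (hiso : ∀ W : X.Opens, Function.Bijective (pres P (inf_le_left : W ⊓ U ≤ W)))
    {i : ι} {W : X.Opens} (hW : W ≤ V i) {s t : pairs P U V ℓ W} (h : s.1.2 i = t.1.2 i) : s = t := by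
  have hfst : s.1.1 = t.1.1 := by
    apply (hiso W).1
    have hle : W ⊓ U ≤ W ⊓ (V i ⊓ U) :=
      le_inf inf_le_left (le_inf (inf_le_left.trans hW) inf_le_right)
    have h1 := congrArg (pres P hle) (s.2 i)
    have h2 := congrArg (pres P hle) (t.2 i)
    rw [pres_pres, pres_smul, fres_fres, pres_pres] at h1 h2
    rw [h1, h2, h]
  refine pairs_ext P U V ℓ hfst fun j => ?_
  by_cases hj : j = i
  · subst hj; exact h
  · exact snd_eq_of_le P U V ℓ hℓ j
      ((inf_le_inf_right _ hW).trans (hdisj i j (Ne.symm hj))) hfst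

/-- Inside `U`, a basis of `P` gives one of the glued module. -/
theorem isBasis_of_proj (hℓ : ∀ i, IsBasis P (ℓ i)) {W : X.Opens} (hW : W ≤ U)
    (m : Γ(glued P U V ℓ, W)) (hm : IsBasis P ((proj P U V ℓ).app W m)) :
    IsBasis (glued P U V ℓ) m := fun W' hW' => by
  have key : (fun r : Γ(X, W') => (proj P U V ℓ).app W' (r • pres (glued P U V ℓ) hW' m)) =
      fun r => r • pres P hW' ((proj P U V ℓ).app W m) := by
    funext r
    rw [Scheme.Modules.Hom.app_smul]
    congr 1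
  have h := hm W' hW'
  change Function.Bijective fun r : Γ(X, W') => r • pres (glued P U V ℓ) hW' m
  have hb := proj_bijective P U V ℓ hℓ (hW'.trans hW)
  refine (Function.Bijective.of_comp_iff' hb _).mp ?_
  change Function.Bijective fun r : Γ(X, W') => (proj P U V ℓ).app W' (r • pres (glued P U V ℓ) hW' m)
  rw [key]
  exact h

theorem isIso_restrict_proj (hℓ : ∀ i, IsBasis P (ℓ i)) :
    IsIso ((Scheme.Modules.restrictFunctor U.ι).map (proj P U V ℓ)) := by
  rw [isIso_iff_mono_and_epi, mono_iff_app_injective]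
  exact ⟨fun W => (proj_bijective P U V ℓ hℓ (ι_image_le U W)).1,
    epi_of_app_surjective _ (B := Set.univ)
      (TopologicalSpace.Opens.isBasis_iff_nbhd.mpr fun {W z} hz ↦ ⟨W, trivial, hz, le_rfl⟩)
      fun W _ => (proj_bijective P U V ℓ hℓ (ι_image_le U W)).2⟩

end Glued

/-- Data glued: an invertible extension of `N`. -/
theorem isInvertible_glued (U : X.Opens) {N : (U : Scheme.{u}).Modules} (hN : PicF.IsInvertible N)
    {ι : Type u} (V : ι → X.Opens) (hcov : ∀ x, x ∉ U → ∃ i, x ∈ V i)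
    (hdisj : ∀ i j, i ≠ j → V i ⊓ V j ≤ U)
    (ℓ : ∀ i, Γ((Scheme.Modules.pushforward U.ι).obj N, V i ⊓ U))
    (hℓ : ∀ i, IsBasis ((Scheme.Modules.pushforward U.ι).obj N) (ℓ i)) :
    PicF.IsInvertible (glued ((Scheme.Modules.pushforward U.ι).obj N) U V ℓ) ∧
      Nonempty ((glued ((Scheme.Modules.pushforward U.ι).obj N) U V ℓ).restrict U.ι ≅ N) := by
  refine ⟨isInvertible_of_isBasis fun x => ?_, ?_⟩
  · by_cases hx : x ∈ U
    · obtain ⟨V', hV', σ, hσ⟩ := exists_isBasis hN (⟨x, hx⟩ : (U : Scheme.{u}))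
      have hle : U.ι ⁻¹ᵁ (U.ι ''ᵁ V') ≤ V' := (U.ι.preimage_image_eq V').le
      have hb := isBasis_pushforward (ι_image_le U V') (isBasis_pres hσ hle)
      obtain ⟨m, hm⟩ := (proj_bijective _ U V ℓ hℓ (ι_image_le U V')).2 (pres N hle σ)
      refine ⟨U.ι ''ᵁ V', ⟨⟨x, hx⟩, hV', rfl⟩, m, isBasis_of_proj _ U V ℓ hℓ (ι_image_le U V') m ?_⟩
      rw [hm]
      exact hb
    · obtain ⟨i, hi⟩ := hcov x hx
      obtain ⟨m, hm, -, -⟩ :=
        exists_basis_V _ U V ℓ hℓ hdisj (pushforward_pres_bijective U N) i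
      exact ⟨V i, hi, m, hm⟩
  · have := isIso_restrict_proj _ U V ℓ hℓ
    exact ⟨asIso ((Scheme.Modules.restrictFunctor U.ι).map
      (proj ((Scheme.Modules.pushforward U.ι).obj N) U V ℓ)) ≪≫
        (Scheme.Modules.restrictFunctorAdjCounitIso U.ι).app N⟩

theorem exists_extend_invertible (U : X.Opens) [QuasiCompact U.ι]
    (hdisc : DiscreteTopology ↥((U : Set X)ᶜ))
    (hloc : ∀ x : X, x ∉ U → IsNoetherianRing (X.presheaf.stalk x) ∧ ringKrullDim (X.presheaf.stalk x) ≤ 1)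
    (N : (U : Scheme.{u}).Modules) (hN : PicF.IsInvertible N) :
    ∃ L : X.Modules, PicF.IsInvertible L ∧ Nonempty (L.restrict U.ι ≅ N) := by
  have loc : ∀ i : {x : X // x ∉ U}, ∃ V : X.Opens, i.1 ∈ V ∧ (∀ y ∈ V, y ∉ U → y = i.1) ∧
      ∃ ℓ : Γ(N, U.ι ⁻¹ᵁ (V ⊓ U)), IsBasis N ℓ := fun i => by
    have := (hloc i.1 i.2).1
    obtain ⟨V, t, h1, h2, -, h3⟩ := exists_nhd U hdisc i.2 (hloc i.1 i.2).2 N hN
    exact ⟨V, h1, h2, h3⟩
  choose V hV honly ℓ hℓ using loc
  obtain ⟨h1, h2⟩ := isInvertible_glued U hN V (fun x hx => ⟨⟨x, hx⟩, hV ⟨x, hx⟩⟩)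
    (fun i j hij y hy => by
      by_contra h
      exact hij (Subtype.ext ((honly i y hy.1 h).symm.trans (honly j y hy.2 h))))
    ℓ fun i => isBasis_pushforward inf_le_right (hℓ i)
  exact ⟨_, h1, h2⟩

theorem isInvertible_unit (T : Scheme.{u}) : PicF.IsInvertible (Coh.structureModule T) :=
  isInvertible_of_isBasis fun x => ⟨⊤, trivial, (1 : Γ(T, ⊤)), fun W hW => by
    change Function.Bijective fun r : Γ(T, W) => r * T.presheaf.map (homOfLE hW).op (1 : Γ(T, ⊤))
    simp only [map_one, mul_one]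
    exact Function.bijective_id⟩

/-- `ι_* O_U`. -/
noncomputable abbrev pushUnit (U : X.Opens) : X.Modules :=
  (Scheme.Modules.pushforward U.ι).obj (Coh.structureModule (U : Scheme.{u}))

/-- The section `1` of `ι_* O_U`. -/
noncomputable def oneSec (U : X.Opens) (W : X.Opens) : Γ(pushUnit U, W) :=
  (1 : Γ((U : Scheme.{u}), U.ι ⁻¹ᵁ W))

theorem pres_oneSec (U : X.Opens) {A B : X.Opens} (h : B ≤ A) :
    pres (pushUnit U) h (oneSec U A) = oneSec U B :=
  map_one (fres (X := (U : Scheme.{u})) (U.ι.preimage_mono h))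

theorem isBasis_oneSec (U : X.Opens) {W : X.Opens} (hW : W ≤ U) : IsBasis (pushUnit U) (oneSec U W) :=
  isBasis_pushforward hW (N := Coh.structureModule (U : Scheme.{u}))
    (σ := (1 : Γ((U : Scheme.{u}), U.ι ⁻¹ᵁ W))) fun W' hW' => by
    change Function.Bijective fun r : Γ((U : Scheme.{u}), W') =>
      r * (U : Scheme.{u}).presheaf.map (homOfLE hW').op (1 : Γ((U : Scheme.{u}), U.ι ⁻¹ᵁ W))
    simp only [map_one, mul_one]
    exact Function.bijective_id

theorem exists_section_genLocus (U : X.Opens) [QuasiCompact U.ι]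
    (hdisc : DiscreteTopology ↥((U : Set X)ᶜ))
    (hloc : ∀ x : X, x ∉ U → IsNoetherianRing (X.presheaf.stalk x) ∧ ringKrullDim (X.presheaf.stalk x) ≤ 1) :
    ∃ (L : X.Modules) (s : Coh.structureModule X ⟶ L), PicF.IsInvertible L ∧ CohB1.genLocus L s = U := by
  have loc : ∀ i : {x : X // x ∉ U}, ∃ (V : X.Opens) (t : Γ(X, V)), i.1 ∈ V ∧
      (∀ y ∈ V, y ∉ U → y = i.1) ∧ V ⊓ U = X.basicOpen t := fun i => by
    have := (hloc i.1 i.2).1
    obtain ⟨V, t, h1, h2, h3, -⟩ := exists_nhd U hdisc i.2 (hloc i.1 i.2).2 _ (isInvertible_unit _)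
    exact ⟨V, t, h1, h2, h3⟩
  choose V t hV honly hVt using loc
  have hu : ∀ i, IsUnit (fres (inf_le_left : V i ⊓ U ≤ V i) (t i)) := fun i => by
    have h := (X.toRingedSpace.isUnit_res_basicOpen (t i)).map (fres (hVt i).le)
    change IsUnit (fres (hVt i).le (fres (X.basicOpen_le (t i)) (t i))) at h
    rwa [fres_fres] at h
  let ℓ : ∀ i, Γ(pushUnit U, V i ⊓ U) := fun i =>
    (((hu i).unit⁻¹ : Γ(X, V i ⊓ U)ˣ) : Γ(X, V i ⊓ U)) • oneSec U (V i ⊓ U)
  have hℓ : ∀ i, IsBasis (pushUnit U) (ℓ i) := fun i W hW => by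
    have key : (fun r : Γ(X, W) => r • pres (pushUnit U) hW (ℓ i)) =
        (fun r => r • oneSec U W) ∘ fun r => r * fres hW ↑((hu i).unit⁻¹) := by
      funext r
      simp only [Function.comp_apply, ℓ]
      rw [pres_smul, pres_oneSec, mul_smul]
    change Function.Bijective fun r : Γ(X, W) => r • pres (pushUnit U) hW (ℓ i)
    rw [key]
    refine Function.Bijective.comp ?_ ((((hu i).unit⁻¹).isUnit.map (fres hW)).unit.mulRight.bijective)
    have h := isBasis_oneSec U (hW.trans inf_le_right) W le_rfl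
    change Function.Bijective fun r : Γ(X, W) => r • pres (pushUnit U) le_rfl (oneSec U W) at h
    rwa [pres_oneSec] at h
  have hdisj : ∀ i j, i ≠ j → V i ⊓ V j ≤ U := fun i j hij y hy => by
    by_contra h
    exact hij (Subtype.ext ((honly i y hy.1 h).symm.trans (honly j y hy.2 h)))
  have hL := (isInvertible_glued U (isInvertible_unit _) V
    (fun x hx => ⟨⟨x, hx⟩, hV ⟨x, hx⟩⟩) hdisj ℓ hℓ).1
  let σp : pairs (pushUnit U) U V ℓ ⊤ := ⟨(oneSec U ⊤, fun i => fres inf_le_right (t i)), fun i => by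
    rw [pres_oneSec, fres_fres]
    simp only [ℓ]
    rw [pres_smul, pres_oneSec, smul_smul]
    rw [← fres_fres (inf_le_left : V i ⊓ U ≤ V i)
      (inf_le_right : ⊤ ⊓ (V i ⊓ U) ≤ V i ⊓ U) (t i), ← map_mul]
    rw [show fres (inf_le_left : V i ⊓ U ≤ V i) (t i) * ↑((hu i).unit⁻¹) = 1 from (hu i).mul_val_inv,
      map_one, one_smul]⟩
  let σ : Γ(glued (pushUnit U) U V ℓ, ⊤) := σp
  refine ⟨_, ProjTwist.globalHom _ σ, hL, ?_⟩
  rw [InvPow.genLocus_globalHom hL]
  apply le_antisymm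
  · intro y hy
    by_contra hyU
    obtain ⟨m, hm, -, hm1⟩ := exists_basis_V _ U V ℓ hℓ hdisj
      (pushforward_pres_bijective U _) ⟨y, hyU⟩
    have hc : ProjUniv.gres (glued (pushUnit U) U V ℓ) σ (V ⟨y, hyU⟩) =
        t ⟨y, hyU⟩ • (show Γ(glued (pushUnit U) U V ℓ, V ⟨y, hyU⟩) from m) := by
      refine ext_of_snd (pushUnit U) U V ℓ hℓ hdisj (pushforward_pres_bijective U _) (i := ⟨y, hyU⟩) le_rfl
        (s := pairsRes (pushUnit U) U V ℓ le_top σp) (t := t ⟨y, hyU⟩ • m) ?_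
      rw [smul_snd, hm1, mul_one]
      exact fres_fres _ _ _
    have h := InvPow.genOpen_inf_eq_basicOpen hL hm hc
    have hy' : y ∈ X.basicOpen (t ⟨y, hyU⟩) := h ▸ ⟨hy, hV ⟨y, hyU⟩⟩
    rw [← hVt] at hy'
    exact hyU hy'.2
  · intro y hy
    refine ProjUniv.gen_of_isBasis (L := glued (pushUnit U) U V ℓ) (s := σ) (U := U) ?_ hy
    refine isBasis_of_proj _ U V ℓ hℓ le_rfl _ ?_
    change IsBasis (pushUnit U) (pres (pushUnit U) le_top (oneSec U ⊤))
    rw [pres_oneSec]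
    exact isBasis_oneSec U le_rfl

end Groth.Agent.InvGlue
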