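import Groth.Agent.InvBasic.OfBasis
import Groth.Agent.ProjUniv.Basis
import Groth.Agent.QCohLib.Basic
import Mathlib.Algebra.Category.ModuleCat.Presheaf
import Mathlib.Topology.Sheaves.SheafCondition.UniqueGluing

/-!
# Extending an invertible module by trivial pieces over a cover

Given a module `P` on `X`, an open `U`, opens `V i` meeting each other only inside `U` and bases
`ℓ i` of `P` on `V i ⊓ U`: `ext P U V ℓ` is the module of pairs (section of `P`, coefficients).
-/

universe u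

open CategoryTheory CategoryTheory.Limits AlgebraicGeometry Opposite TopologicalSpace

set_option backward.isDefEq.respectTransparency false

namespace Groth.Agent.InvGlue

open Groth.Agent.InvBasic Groth.Agent.QCohLib

variable {X : Scheme.{u}} (P : X.Modules) (U : X.Opens) {ι : Type u} (V : ι → X.Opens)
  (ℓ : ∀ i, Γ(P, V i ⊓ U))

/-- Restriction of sections of `P`. -/
noncomputable def pres {A B : X.Opens} (h : B ≤ A) : Γ(P, A) →+ Γ(P, B) :=
  (P.presheaf.map (homOfLE h).op).hom

/-- Restriction of functions. -/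
noncomputable def fres {A B : X.Opens} (h : B ≤ A) : Γ(X, A) →+* Γ(X, B) :=
  (X.presheaf.map (homOfLE h).op).hom

theorem pres_pres {A B C : X.Opens} (h : B ≤ A) (h' : C ≤ B) (x : Γ(P, A)) :
    pres P h' (pres P h x) = pres P (h'.trans h) x := map_map P h' h x

theorem fres_fres {A B C : X.Opens} (h : B ≤ A) (h' : C ≤ B) (x : Γ(X, A)) :
    fres h' (fres h x) = fres (h'.trans h) x := ring_map_map h' h x

theorem pres_smul {A B : X.Opens} (h : B ≤ A) (r : Γ(X, A)) (x : Γ(P, A)) :
    pres P h (r • x) = fres h r • pres P h x := Scheme.Modules.map_smul _ _ _ _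

theorem pres_self {A : X.Opens} (h : A ≤ A) (x : Γ(P, A)) : pres P h x = x := map_self P h x

theorem fres_self {A : X.Opens} (h : A ≤ A) (x : Γ(X, A)) : fres h x = x := by
  change X.presheaf.map (𝟙 (op A)) x = x
  rw [X.presheaf.map_id]; rfl

/-- Compatible pairs over `W`. -/
noncomputable def pairs (W : X.Opens) : AddSubgroup (Γ(P, W) × ∀ i, Γ(X, W ⊓ V i)) where
  carrier := {s | ∀ i, pres P (inf_le_left : W ⊓ (V i ⊓ U) ≤ W) s.1 =
    fres (inf_le_inf_left W inf_le_left : W ⊓ (V i ⊓ U) ≤ W ⊓ V i) (s.2 i) •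
      pres P (inf_le_right : W ⊓ (V i ⊓ U) ≤ V i ⊓ U) (ℓ i)}
  zero_mem' i := by simp
  add_mem' {a b} ha hb i := by simp [ha i, hb i, add_smul]
  neg_mem' {a} ha i := by simp [ha i, neg_smul]

noncomputable instance (W : X.Opens) : SMul Γ(X, W) (pairs P U V ℓ W) where
  smul r s := ⟨(r • s.1.1, fun i => fres inf_le_left r * s.1.2 i), fun i => by
    dsimp only
    rw [pres_smul, s.2 i, map_mul, fres_fres, mul_smul]⟩

theorem smul_fst {W : X.Opens} (r : Γ(X, W)) (s : pairs P U V ℓ W) : (r • s).1.1 = r • s.1.1 := rfl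

theorem smul_snd {W : X.Opens} (r : Γ(X, W)) (s : pairs P U V ℓ W) (i : ι) :
    (r • s).1.2 i = fres inf_le_left r * s.1.2 i := rfl

theorem pairs_ext {W : X.Opens} {s t : pairs P U V ℓ W} (h₁ : s.1.1 = t.1.1)
    (h₂ : ∀ i, s.1.2 i = t.1.2 i) : s = t :=
  Subtype.ext (Prod.ext h₁ (funext h₂))

noncomputable instance (W : X.Opens) : Module Γ(X, W) (pairs P U V ℓ W) where
  one_smul s := pairs_ext P U V ℓ (by simp [smul_fst]) fun i => by simp [smul_snd]
  mul_smul a b s := pairs_ext P U V ℓ (by simp [smul_fst, mul_smul]) fun i => by simp [smul_snd, mul_assoc]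
  smul_zero a := pairs_ext P U V ℓ (by simp [smul_fst]) fun i => by simp [smul_snd]
  smul_add a s t := pairs_ext P U V ℓ (by simp [smul_fst]) fun i => by simp [smul_snd, mul_add]
  add_smul a b s := pairs_ext P U V ℓ (by simp [smul_fst, add_smul]) fun i => by simp [smul_snd, add_mul]
  zero_smul s := pairs_ext P U V ℓ (by simp [smul_fst]) fun i => by simp [smul_snd]

/-- Restriction of pairs. -/
noncomputable def pairsRes {W W' : X.Opens} (h : W' ≤ W) : pairs P U V ℓ W →+ pairs P U V ℓ W' where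
  toFun s := ⟨(pres P h s.1.1, fun i => fres (inf_le_inf_right _ h) (s.1.2 i)), fun i => by
    have := congrArg (pres P (inf_le_inf_right (V i ⊓ U) h)) (s.2 i)
    rw [pres_pres, pres_smul, pres_pres, fres_fres] at this
    rw [pres_pres, fres_fres]
    exact this⟩
  map_zero' := pairs_ext P U V ℓ (map_zero (pres P h)) fun _ => map_zero (fres _)
  map_add' _ _ := pairs_ext P U V ℓ (map_add (pres P h) _ _) fun _ => map_add (fres _) _ _

/-- The presheaf of pairs. -/
noncomputable def presheaf : TopCat.Presheaf AddCommGrpCat.{u} X.carrier where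
  obj W := AddCommGrpCat.of (pairs P U V ℓ W.unop)
  map j := AddCommGrpCat.ofHom (pairsRes P U V ℓ j.unop.le)
  map_id W := by
    refine AddCommGrpCat.hom_ext (AddMonoidHom.ext fun s => ?_)
    change pairsRes P U V ℓ _ (show pairs P U V ℓ W.unop from s) = s
    exact pairs_ext P U V ℓ (pres_self P _ _) fun i => fres_self _ _
  map_comp {A B C} j k := by
    refine AddCommGrpCat.hom_ext (AddMonoidHom.ext fun s => ?_)
    change pairsRes P U V ℓ _ (show pairs P U V ℓ A.unop from s) =
      pairsRes P U V ℓ _ (pairsRes P U V ℓ j.unop.le (show pairs P U V ℓ A.unop from s))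
    exact pairs_ext P U V ℓ (pres_pres P _ _ _).symm fun i => (fres_fres _ _ _).symm

noncomputable instance (W : (Opens X)ᵒᵖ) :
    Module (X.ringCatSheaf.obj.obj W) ((presheaf P U V ℓ).obj W) :=
  inferInstanceAs (Module Γ(X, W.unop) (pairs P U V ℓ W.unop))

/-- The presheaf of modules of pairs. -/
noncomputable def presheafMod : PresheafOfModules X.ringCatSheaf.obj :=
  PresheafOfModules.ofPresheaf (presheaf P U V ℓ) fun W W' j r s => pairs_ext P U V ℓ
    (pres_smul P j.unop.le r (show pairs P U V ℓ W.unop from s).1.1) fun i => by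
      change fres _ (fres inf_le_left r * (show pairs P U V ℓ W.unop from s).1.2 i) =
        fres inf_le_left (fres j.unop.le r) * fres _ ((show pairs P U V ℓ W.unop from s).1.2 i)
      rw [map_mul, fres_fres, fres_fres]

theorem isSheaf_presheaf : TopCat.Presheaf.IsSheaf (presheaf P U V ℓ) := by
  rw [TopCat.Presheaf.isSheaf_iff_isSheafUniqueGluing]
  intro κ W sf hsf
  let SP : TopCat.Sheaf AddCommGrpCat.{u} X := ⟨P.presheaf, P.isSheaf⟩
  obtain ⟨σ, hσ, hσu⟩ := TopCat.Sheaf.existsUnique_gluing' SP W (iSup W)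
    (fun a => homOfLE (le_iSup W a)) le_rfl
    (fun a => ((show pairs P U V ℓ (W a) from sf a).1.1 : Γ(P, W a)))
    (fun a b => congrArg (fun s : pairs P U V ℓ (W a ⊓ W b) => s.1.1) (hsf a b))
  have hc : ∀ i, ∃! c : Γ(X, iSup W ⊓ V i), ∀ a, fres (inf_le_inf_right _ (le_iSup W a)) c =
      (show pairs P U V ℓ (W a) from sf a).1.2 i := by
    intro i
    obtain ⟨c, hc, hcu⟩ := TopCat.Sheaf.existsUnique_gluing' X.sheaf (fun a => W a ⊓ V i) (iSup W ⊓ V i)
      (fun a => homOfLE (inf_le_inf_right _ (le_iSup W a))) (fun y hy => by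
        obtain ⟨a, ha⟩ := Opens.mem_iSup.mp hy.1
        exact Opens.mem_iSup.mpr ⟨a, ha, hy.2⟩)
      (fun a => (show pairs P U V ℓ (W a) from sf a).1.2 i) (fun a b => by
        have h := congrArg (fun s : pairs P U V ℓ (W a ⊓ W b) => s.1.2 i) (hsf a b)
        change fres _ _ = fres _ _ at h
        have h' := congrArg (fres (le_inf (inf_le_inf inf_le_left inf_le_left)
          (inf_le_left.trans inf_le_right) : (W a ⊓ V i) ⊓ (W b ⊓ V i) ≤ (W a ⊓ W b) ⊓ V i)) h
        rw [fres_fres, fres_fres] at h'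
        exact h')
    exact ⟨c, hc, hcu⟩
  choose c hc hcu using hc
  refine ⟨⟨(σ, c), fun i => ?_⟩, fun a => pairs_ext P U V ℓ (hσ a) fun i => hc i a, fun t ht => ?_⟩
  · refine TopCat.Sheaf.eq_of_locally_eq' SP (fun a => W a ⊓ (V i ⊓ U)) _
      (fun a => homOfLE (inf_le_inf_right _ (le_iSup W a))) (fun y hy => ?_) _ _ fun a => ?_
    · obtain ⟨a, ha⟩ := Opens.mem_iSup.mp hy.1
      exact Opens.mem_iSup.mpr ⟨a, ha, hy.2⟩
    · change pres P _ _ = pres P _ _
      rw [pres_pres, pres_smul, fres_fres, pres_pres]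
      rw [← pres_pres P (le_iSup W a) (inf_le_left : W a ⊓ (V i ⊓ U) ≤ W a),
        ← fres_fres (inf_le_inf_right (V i) (le_iSup W a))
          (inf_le_inf_left _ inf_le_left : W a ⊓ (V i ⊓ U) ≤ W a ⊓ V i), hc i a]
      exact (congrArg _ (hσ a)).trans ((show pairs P U V ℓ (W a) from sf a).2 i)
  · exact pairs_ext P U V ℓ (hσu _ fun a => congrArg (fun s : pairs P U V ℓ (W a) => s.1.1) (ht a))
      fun i => hcu i _ fun a => congrArg (fun s : pairs P U V ℓ (W a) => s.1.2 i) (ht a)

/-- The glued module. -/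
noncomputable def glued : X.Modules := ⟨presheafMod P U V ℓ, isSheaf_presheaf P U V ℓ⟩

/-- The projection to `P`. -/
noncomputable def proj : glued P U V ℓ ⟶ P :=
  ⟨PresheafOfModules.homMk (M₁ := presheafMod P U V ℓ) (M₂ := P.val)
    { app := fun W => AddCommGrpCat.ofHom
        (AddMonoidHom.mk' (fun s => (show pairs P U V ℓ W.unop from s).1.1) fun _ _ => rfl)
      naturality := fun W W' j => by ext s; rfl }
    fun W r s => rfl⟩

theorem proj_app {W : X.Opens} (s : pairs P U V ℓ W) :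
    (proj P U V ℓ).app W (show Γ(glued P U V ℓ, W) from s) = s.1.1 := rfl

variable (hℓ : ∀ i, IsBasis P (ℓ i))

include hℓ in
/-- Coefficients are determined inside `U`. -/
theorem snd_eq_of_le {W : X.Opens} {s t : pairs P U V ℓ W} (i : ι) (hW : W ⊓ V i ≤ U)
    (h : s.1.1 = t.1.1) : s.1.2 i = t.1.2 i := by
  have hle : W ⊓ V i ≤ W ⊓ (V i ⊓ U) := le_inf inf_le_left (le_inf inf_le_right hW)
  have h1 := congrArg (pres P hle) (s.2 i)
  have h2 := congrArg (pres P hle) (t.2 i)
  rw [pres_smul, fres_fres, fres_self, pres_pres] at h1 h2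
  apply (hℓ i (W ⊓ V i) (hle.trans inf_le_right)).1
  change s.1.2 i • pres P _ (ℓ i) = t.1.2 i • pres P _ (ℓ i)
  rw [← pres_pres P inf_le_right hle, ← h1, ← h2, h]

include hℓ in
theorem proj_bijective {W : X.Opens} (hW : W ≤ U) : Function.Bijective ((proj P U V ℓ).app W) := by
  refine ⟨fun s t h => ?_, fun σ => ?_⟩
  · exact pairs_ext P U V ℓ h fun i => snd_eq_of_le P U V ℓ hℓ i (inf_le_left.trans hW) h
  · have : ∀ i, ∃ a : Γ(X, W ⊓ V i), a • pres P (le_inf inf_le_right (inf_le_left.trans hW) :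
        W ⊓ V i ≤ V i ⊓ U) (ℓ i) = pres P inf_le_left σ := fun i =>
      (hℓ i (W ⊓ V i) (le_inf inf_le_right (inf_le_left.trans hW))).2 _
    choose a ha using this
    refine ⟨show pairs P U V ℓ W from ⟨(σ, a), fun i => ?_⟩, rfl⟩
    have h := congrArg (pres P (inf_le_inf_left W inf_le_left : W ⊓ (V i ⊓ U) ≤ W ⊓ V i)) (ha i)
    rw [pres_smul, pres_pres, pres_pres] at h
    exact h.symm

variable (hdisj : ∀ i j, i ≠ j → V i ⊓ V j ≤ U)
  (hiso : ∀ W : X.Opens, Function.Bijective (pres P (inf_le_left : W ⊓ U ≤ W)))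

include hℓ hdisj hiso in
/-- The trivialisation over `V i`. -/
theorem exists_basis_V (i : ι) : ∃ m : pairs P U V ℓ (V i),
    IsBasis (glued P U V ℓ) (show Γ(glued P U V ℓ, V i) from m) ∧
      pres P inf_le_left m.1.1 = ℓ i ∧ m.1.2 i = 1 := by
  classical
  obtain ⟨σ, hσ⟩ := (hiso (V i)).2 (ℓ i)
  have hex : ∀ j, ∃ a : Γ(X, V i ⊓ V j), (j = i → a = 1) ∧
      pres P (inf_le_left : V i ⊓ (V j ⊓ U) ≤ V i) σ =
        fres (inf_le_inf_left _ inf_le_left : V i ⊓ (V j ⊓ U) ≤ V i ⊓ V j) a •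
          pres P (inf_le_right : V i ⊓ (V j ⊓ U) ≤ V j ⊓ U) (ℓ j) := by
    intro j
    by_cases h : j = i
    · subst h
      refine ⟨1, fun _ => rfl, ?_⟩
      rw [map_one, one_smul, ← pres_pres P (inf_le_left : V j ⊓ U ≤ V j)
        (inf_le_right : V j ⊓ (V j ⊓ U) ≤ V j ⊓ U), hσ]
    · have hle : V i ⊓ V j ≤ V j ⊓ U := le_inf inf_le_right (hdisj i j (Ne.symm h))
      obtain ⟨a, ha⟩ := (hℓ j _ hle).2 (pres P inf_le_left σ)
      refine ⟨a, fun h' => absurd h' h, ?_⟩
      have := congrArg (pres P (inf_le_inf_left _ inf_le_left : V i ⊓ (V j ⊓ U) ≤ V i ⊓ V j)) ha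
      change pres P _ (a • pres P hle (ℓ j)) = pres P _ (pres P inf_le_left σ) at this
      rw [pres_smul, pres_pres, pres_pres] at this
      exact this.symm
  choose a ha1 ha using hex
  refine ⟨⟨(σ, a), ha⟩, fun W hW => ?_, hσ, ha1 i rfl⟩
  let m : pairs P U V ℓ (V i) := ⟨(σ, a), ha⟩
  change Function.Bijective fun r : Γ(X, W) => r • pairsRes P U V ℓ hW m
  have hWi : W ≤ W ⊓ V i := le_inf le_rfl hW
  have hsnd : ∀ r : Γ(X, W), (r • pairsRes P U V ℓ hW m).1.2 i = fres inf_le_left r := by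
    intro r
    rw [smul_snd]
    change _ * fres _ (a i) = _
    rw [ha1 i rfl, map_one, mul_one]
  refine ⟨fun r r' h => ?_, fun s => ?_⟩
  · have h' := congrArg (fun s : pairs P U V ℓ W => fres hWi (s.1.2 i)) h
    simp only [hsnd, fres_fres, fres_self] at h'
    exact h'
  · refine ⟨fres hWi (s.1.2 i), ?_⟩
    have hfst : (fres hWi (s.1.2 i) • pairsRes P U V ℓ hW m).1.1 = s.1.1 := by
      apply (hiso W).1
      have hle : W ⊓ U ≤ W ⊓ (V i ⊓ U) := le_inf inf_le_left (le_inf (inf_le_left.trans hW) inf_le_right)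
      have h1 := congrArg (pres P hle) (s.2 i)
      rw [pres_pres, pres_smul, fres_fres, pres_pres] at h1
      rw [h1, smul_fst, pres_smul, fres_fres]
      congr 1
      change pres P _ (pres P hW σ) = _
      rw [pres_pres, ← hσ, pres_pres]
    refine pairs_ext P U V ℓ hfst fun j => ?_
    by_cases h : j = i
    · subst h
      rw [hsnd, fres_fres, fres_self]
    · exact snd_eq_of_le P U V ℓ hℓ j ((inf_le_inf_right _ hW).trans (hdisj i j (Ne.symm h))) hfst

end Groth.Agent.InvGlue
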