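import Groth.Agent.InvGlue.Glue
import Groth.Agent.InvBasic.QCoh
import Groth.Agent.QCohLib.Sections
import Groth.Agent.AffineNbhd.Gen

/-!
# Local bases near isolated points of the complement of an open

* `exists_sep`: separating functions on an affine open;
* `exists_basis_of_finite`: an invertible module is trivial near finitely many pairwise
  non-specialising points of an affine open;
* `finite_gen_of_dim_le_one`: proper generalisations of a point with local ring of dimension `≤ 1`;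
* `exists_nhd`: a neighbourhood `V` of `x ∉ U` with `V ⊓ U` principal in `V` and an invertible
  module trivial on it.
-/

universe u

open CategoryTheory CategoryTheory.Limits AlgebraicGeometry Opposite TopologicalSpace

set_option backward.isDefEq.respectTransparency false

namespace Groth.Agent.InvGlue

open Groth.Agent.InvBasic Groth.Agent.QCohLib

variable {X : Scheme.{u}}

theorem isBasis_pres {L : X.Modules} {U V : X.Opens} {ℓ : Γ(L, U)} (h : IsBasis L ℓ) (hV : V ≤ U) :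
    IsBasis L (pres L hV ℓ) := fun W hW => by
  change Function.Bijective fun r : Γ(X, W) => r • pres L hW (pres L hV ℓ)
  rw [pres_pres]
  exact h W (hW.trans hV)

theorem exists_sep {A : X.Opens} (hA : IsAffineOpen A) (S : Finset X) {z : X} (hz : z ∈ A)
    (h : ∀ w ∈ S, ¬ w ⤳ z) : ∃ c : Γ(X, A), z ∈ X.basicOpen c ∧ ∀ w ∈ S, w ∉ X.basicOpen c := by
  classical
  have hC : z ∉ ⋃ w ∈ S, closure ({w} : Set X) := by
    simp only [Set.mem_iUnion, not_exists]
    exact fun w hw hzw => h w hw (specializes_iff_mem_closure.mpr hzw)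
  obtain ⟨c, hc, hzc⟩ := hA.exists_basicOpen_le
    (V := ⟨(⋃ w ∈ S, closure ({w} : Set X))ᶜ,
      (S.finite_toSet.isClosed_biUnion fun w _ => isClosed_closure).isOpen_compl⟩) ⟨z, hC⟩ hz
  exact ⟨c, hzc, fun w hw hwc => hc hwc (Set.mem_biUnion hw (subset_closure rfl))⟩

/-- An invertible module on finitely many pairwise incomparable points of an affine open. -/
theorem exists_basis_of_finite {L : X.Modules} (hL : PicF.IsInvertible L) {A : X.Opens}
    (hA : IsAffineOpen A) (Z : Finset X) (hZA : ∀ z ∈ Z, z ∈ A)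
    (hinc : ∀ y ∈ Z, ∀ z ∈ Z, y ⤳ z → y = z) :
    ∃ (G : X.Opens) (_ : ∀ z ∈ Z, z ∈ G) (_ : G ≤ A) (ℓ : Γ(L, G)), IsBasis L ℓ := by
  classical
  have := isQuasicoherent_of_isInvertible hL
  have loc : ∀ z : Z, ∃ (D : X.Opens) (hD : D ≤ A) (b : Γ(L, D)) (e : Γ(L, A)),
      z.1 ∈ D ∧ IsBasis L b ∧ pres L hD e = b := by
    rintro ⟨z, hz⟩
    obtain ⟨V, hzV, ℓ, hℓ⟩ := exists_isBasis hL z
    obtain ⟨f, hf, hzf⟩ := hA.exists_basicOpen_le (V := V) ⟨z, hzV⟩ (hZA z hz)
    obtain ⟨n, e, he⟩ := exists_res_eq_pow_smul (M := L) hA f _ (X.basicOpen_le f) rfl (pres L hf ℓ)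
    refine ⟨_, X.basicOpen_le f, _, e, hzf, ?_, he⟩
    intro W hW
    have hu : IsUnit (fres hW (fres (X.basicOpen_le f) f ^ n)) :=
      ((X.toRingedSpace.isUnit_res_basicOpen f).pow n).map (fres hW)
    have key : (fun r : Γ(X, W) => r • pres L hW (fres (X.basicOpen_le f) f ^ n • pres L hf ℓ)) =
        (fun r => r • pres L (hW.trans hf) ℓ) ∘ fun r => r * fres hW (fres (X.basicOpen_le f) f ^ n) := by
      funext r
      simp only [Function.comp_apply]
      rw [pres_smul, pres_pres, mul_smul]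
    change Function.Bijective fun r : Γ(X, W) =>
      r • pres L hW (fres (X.basicOpen_le f) f ^ n • pres L hf ℓ)
    rw [key]
    exact (hℓ W (hW.trans hf)).comp hu.unit.mulRight.bijective
  choose D hD b e hzD hb he using loc
  have hsep : ∀ z : Z, ∃ c : Γ(X, A), z.1 ∈ X.basicOpen c ∧ ∀ w ∈ Z.erase z.1, w ∉ X.basicOpen c :=
    fun z => exists_sep hA _ (hZA z.1 z.2) fun w hw hwz =>
      (Finset.mem_erase.mp hw).1 (hinc w (Finset.mem_erase.mp hw).2 z.1 z.2 hwz)
  choose c hc hc' using hsep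
  let s : Γ(L, A) := ∑ z : Z, c z • e z
  have hGz : ∀ z : Z, ∃ (G : X.Opens) (hG : G ≤ A), z.1 ∈ G ∧ IsBasis L (pres L hG s) := by
    intro z
    choose d hd using fun w : Z => (hb z (D z) le_rfl).2 (pres L (hD z) (e w))
    have hd' : ∀ w, pres L (hD z) (e w) = d w • b z := fun w => by
      rw [← hd w]
      change d w • pres L (le_refl (D z)) (b z) = _
      rw [pres_self]
    have hdz : d z = 1 := by
      apply (hb z (D z) le_rfl).1
      change d z • pres L (le_refl (D z)) (b z) = 1 • pres L (le_refl (D z)) (b z)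
      rw [pres_self, one_smul, ← hd' z, he z]
    let a : Γ(X, D z) := ∑ w : Z, fres (hD z) (c w) * d w
    have hs : pres L (hD z) s = a • b z := by
      simp only [s, a, map_sum, Finset.sum_smul]
      refine Finset.sum_congr rfl fun w _ => ?_
      rw [pres_smul, hd' w, mul_smul]
    have hza : z.1 ∈ X.basicOpen a := by
      rw [X.mem_basicOpen a z.1 (hzD z)]
      let φ := (X.presheaf.germ (D z) z.1 (hzD z)).hom
      have hgerm : ∀ w, φ (fres (hD z) (c w)) = X.presheaf.germ A z.1 (hZA z.1 z.2) (c w) := fun w =>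
        TopCat.Presheaf.germ_res_apply _ _ _ _ _
      change IsUnit (φ a)
      simp only [a, map_sum, map_mul]
      rw [← Finset.add_sum_erase Finset.univ _ (Finset.mem_univ z), hdz, map_one, mul_one]
      have hu : IsUnit (φ (fres (hD z) (c z))) := by
        rw [hgerm]
        exact (X.mem_basicOpen (c z) z.1 _).mp (hc z)
      have hm : ∑ w ∈ Finset.univ.erase z, φ (fres (hD z) (c w)) * φ (d w) ∈
          IsLocalRing.maximalIdeal (X.presheaf.stalk z.1) := by
        refine Ideal.sum_mem _ fun w hw => Ideal.mul_mem_right _ _ ?_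
        rw [IsLocalRing.mem_maximalIdeal, mem_nonunits_iff, hgerm]
        intro hu'
        refine hc' w z.1 (Finset.mem_erase.mpr ⟨fun h => (Finset.mem_erase.mp hw).1 (Subtype.ext h.symm), z.2⟩)
          ((X.mem_basicOpen (c w) z.1 _).mpr hu')
      by_contra hnu
      have := Ideal.sub_mem _ ((IsLocalRing.mem_maximalIdeal _).mpr hnu) hm
      rw [add_sub_cancel_right] at this
      exact (IsLocalRing.mem_maximalIdeal _).mp this hu
    refine ⟨X.basicOpen a, (X.basicOpen_le a).trans (hD z), hza, fun W hW => ?_⟩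
    have hu : IsUnit (fres hW (fres (X.basicOpen_le a) a)) :=
      (X.toRingedSpace.isUnit_res_basicOpen a).map (fres hW)
    have key : (fun r : Γ(X, W) => r • pres L hW (pres L ((X.basicOpen_le a).trans (hD z)) s)) =
        (fun r => r • pres L (hW.trans (X.basicOpen_le a)) (b z)) ∘
          fun r => r * fres hW (fres (X.basicOpen_le a) a) := by
      funext r
      simp only [Function.comp_apply]
      rw [pres_pres, ← pres_pres L (hD z) (hW.trans (X.basicOpen_le a)), hs, pres_smul, mul_smul,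
        fres_fres]
    change Function.Bijective fun r : Γ(X, W) =>
      r • pres L hW (pres L ((X.basicOpen_le a).trans (hD z)) s)
    rw [key]
    exact (hb z W (hW.trans (X.basicOpen_le a))).comp hu.unit.mulRight.bijective
  choose G hG hzG hbG using hGz
  refine ⟨iSup G, fun z hz => Opens.mem_iSup.mpr ⟨⟨z, hz⟩, hzG ⟨z, hz⟩⟩, iSup_le hG,
    pres L (iSup_le hG) s, ProjUniv.isBasis_of_cover fun y hy => ?_⟩
  obtain ⟨z, hyz⟩ := Opens.mem_iSup.mp hy
  refine ⟨G z, le_iSup G z, hyz, ?_⟩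
  change IsBasis L (pres L (le_iSup G z) (pres L (iSup_le hG) s))
  rw [pres_pres]
  exact hbG z

/-- Proper generalisations of a point whose local ring is Noetherian of dimension `≤ 1`. -/
theorem finite_gen_of_dim_le_one (x : X) [IsNoetherianRing (X.presheaf.stalk x)]
    (hdim : ringKrullDim (X.presheaf.stalk x) ≤ 1) :
    {y : X | y ⤳ x ∧ y ≠ x}.Finite ∧ ∀ y z : X, y ⤳ z → z ⤳ x → z ≠ x → y = z := by
  have : Ring.KrullDimLE 1 (X.presheaf.stalk x) := Ring.krullDimLE_iff.mpr hdim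
  let j := X.fromSpecStalk x
  have hx : j (IsLocalRing.closedPoint _) = x := Scheme.fromSpecStalk_closedPoint
  have hmin : ∀ q : Spec (X.presheaf.stalk x), j q ≠ x →
      q.asIdeal ∈ minimalPrimes (X.presheaf.stalk x) := by
    intro q hq
    refine (Ring.krullDimLE_one_iff.mp this q.asIdeal q.2).resolve_right fun hm => hq ?_
    rw [show q = IsLocalRing.closedPoint _ from
      PrimeSpectrum.ext (IsLocalRing.eq_maximalIdeal hm), hx]
  have hr : ∀ {y : X}, y ⤳ x → ∃ q, j q = y := fun {y} hy => by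
    have : y ∈ Set.range j := by
      rw [Scheme.range_fromSpecStalk]; exact hy
    exact this
  refine ⟨?_, fun y z hyz hzx hz => ?_⟩
  · refine Set.Finite.subset ((((minimalPrimes.finite_of_isNoetherianRing (X.presheaf.stalk x)).preimage
      (f := fun q : Spec (X.presheaf.stalk x) => q.asIdeal)
      fun a _ b _ h => PrimeSpectrum.ext h)).image j) ?_
    rintro y ⟨hy, hne⟩
    obtain ⟨q, rfl⟩ := hr hy
    exact ⟨q, hmin q hne, rfl⟩
  · obtain ⟨q, rfl⟩ := hr hzx
    obtain ⟨p, rfl⟩ := hr (hyz.trans hzx)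
    have hpq : p.asIdeal ≤ q.asIdeal := (PrimeSpectrum.le_iff_specializes p q).mpr
      (j.isEmbedding.isInducing.specializes_iff.mp hyz)
    exact congrArg j (PrimeSpectrum.ext (le_antisymm hpq ((hmin q hz).2 ⟨p.2, bot_le⟩ hpq)))

/-- The local datum at `x ∉ U`. -/
theorem exists_nhd (U : X.Opens) [QuasiCompact U.ι] (hdisc : DiscreteTopology ↥((U : Set X)ᶜ))
    {x : X} (hx : x ∉ U) [IsNoetherianRing (X.presheaf.stalk x)]
    (hdim : ringKrullDim (X.presheaf.stalk x) ≤ 1)
    (N : (U : Scheme.{u}).Modules) (hN : PicF.IsInvertible N) :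
    ∃ (V : X.Opens) (t : Γ(X, V)), x ∈ V ∧ (∀ y ∈ V, y ∉ U → y = x) ∧ V ⊓ U = X.basicOpen t ∧
      ∃ ℓ : Γ(N, U.ι ⁻¹ᵁ (V ⊓ U)), IsBasis N ℓ := by
  classical
  obtain ⟨W, hWo, hW⟩ : ∃ W : Set X, IsOpen W ∧
      ((↑) : ↥((U : Set X)ᶜ) → X) ⁻¹' W = {(⟨x, hx⟩ : ↥((U : Set X)ᶜ))} :=
    isOpen_induced_iff.mp (isOpen_discrete _)
  have hxW : x ∈ W := by
    have : (⟨x, hx⟩ : ↥((U : Set X)ᶜ)) ∈ ((↑) : ↥((U : Set X)ᶜ) → X) ⁻¹' W := by rw [hW]; rfl
    exact this
  obtain ⟨_, ⟨V₀, hV₀, rfl⟩, hxV₀, hV₀W⟩ :=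
    X.isBasis_affineOpens.exists_subset_of_mem_open hxW hWo
  have honly : ∀ y ∈ V₀, y ∉ U → y = x := fun y hy hyU => by
    have : (⟨y, hyU⟩ : ↥((U : Set X)ᶜ)) ∈ ((↑) : ↥((U : Set X)ᶜ) → X) ⁻¹' W := hV₀W hy
    rw [hW] at this
    exact congrArg Subtype.val this
  obtain ⟨hfin, hinc⟩ := finite_gen_of_dim_le_one x hdim
  let Z := hfin.toFinset
  have hZ : ∀ {z}, z ∈ Z ↔ z ⤳ x ∧ z ≠ x := fun {z} => hfin.mem_toFinset
  have hZV : ∀ z ∈ Z, z ∈ V₀ := fun z hz => (hZ.mp hz).1.mem_open V₀.2 hxV₀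
  have hZU : ∀ z ∈ Z, z ∈ U := fun z hz => by
    by_contra h
    exact (hZ.mp hz).2 (honly z (hZV z hz) h)
  -- a function vanishing at `x` and invertible at its proper generalisations
  have hsep : ∀ z : Z, ∃ c : Γ(X, V₀), z.1 ∈ X.basicOpen c ∧
      ∀ w ∈ insert x (Z.erase z.1), w ∉ X.basicOpen c := fun z =>
    exists_sep hV₀ _ (hZV z.1 z.2) fun w hw hwz => by
      rcases Finset.mem_insert.mp hw with rfl | hw
      · exact (hZ.mp z.2).2 ((hZ.mp z.2).1.antisymm hwz).eq
      · exact (Finset.mem_erase.mp hw).1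
          (hinc w z.1 hwz (hZ.mp z.2).1 (hZ.mp z.2).2)
  choose c hc hc' using hsep
  let t : Γ(X, V₀) := ∑ z : Z, c z
  have hmem : ∀ (y : X) (hy : y ∈ V₀) (S : Finset Z), (∀ w ∈ S, y ∉ X.basicOpen (c w)) →
      ∑ w ∈ S, X.presheaf.germ V₀ y hy (c w) ∈ IsLocalRing.maximalIdeal (X.presheaf.stalk y) :=
    fun y hy S h => Ideal.sum_mem _ fun w hw => (IsLocalRing.mem_maximalIdeal _).mpr
      fun hu => h w hw ((X.mem_basicOpen (c w) y hy).mpr hu)
  have hxt : x ∉ X.basicOpen t := fun h => by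
    rw [X.mem_basicOpen t x hxV₀] at h
    simp only [t, map_sum] at h
    exact (IsLocalRing.mem_maximalIdeal _).mp
      (hmem x hxV₀ _ fun w _ => hc' w x (Finset.mem_insert_self _ _)) h
  have hzt : ∀ z ∈ Z, z ∈ X.basicOpen t := fun z hz => by
    rw [X.mem_basicOpen t z (hZV z hz)]
    simp only [t, map_sum]
    rw [← Finset.add_sum_erase Finset.univ _ (Finset.mem_univ ⟨z, hz⟩)]
    by_contra hnu
    have := Ideal.sub_mem _ ((IsLocalRing.mem_maximalIdeal _).mpr hnu)
      (hmem z (hZV z hz) (Finset.univ.erase ⟨z, hz⟩) fun w hw => hc' w z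
        (Finset.mem_insert_of_mem (Finset.mem_erase.mpr
          ⟨fun h => (Finset.mem_erase.mp hw).1 (Subtype.ext h.symm), hz⟩)))
    rw [add_sub_cancel_right] at this
    exact (IsLocalRing.mem_maximalIdeal _).mp this ((X.mem_basicOpen _ z _).mp (hc ⟨z, hz⟩))
  have htU : X.basicOpen t ≤ U := fun y hy => by
    by_contra h
    exact hxt (honly y (X.basicOpen_le t hy) h ▸ hy)
  -- `N` near the generalisations
  obtain ⟨G, hZG, hGA, ℓ, hℓ⟩ := exists_basis_of_finite hN
    (A := U.ι ⁻¹ᵁ X.basicOpen t)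
    ((hV₀.basicOpen t).preimage_of_isOpenImmersion U.ι (by rwa [Scheme.Opens.opensRange_ι]))
    (Finset.univ.image fun z : Z => (⟨z.1, hZU z.1 z.2⟩ : (U : Scheme.{u})))
    (fun z hz => by
      obtain ⟨w, -, rfl⟩ := Finset.mem_image.mp hz
      exact hzt w.1 w.2)
    (fun y hy z hz h => by
      obtain ⟨a, -, rfl⟩ := Finset.mem_image.mp hy
      obtain ⟨b, -, rfl⟩ := Finset.mem_image.mp hz
      exact Subtype.ext (hinc a.1 b.1 (h.map U.ι.continuous) (hZ.mp b.2).1 (hZ.mp b.2).2))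
  -- remove the closure of the rest
  let G' : X.Opens := U.ι ''ᵁ G
  have hG't : G' ≤ X.basicOpen t := (U.ι.image_mono hGA).trans (by
    rw [Scheme.Hom.image_preimage_eq_opensRange_inf]; exact inf_le_right)
  let K : Set X := ((V₀ : Set X) ∩ U) \ G'
  have hxK : x ∉ closure K := by
    intro hxK
    let P : X.Opens := V₀ ⊓ U
    have hP : IsCompact (P : Set X) := by
      have h := (QuasiCompact.isCompact_preimage (f := U.ι) (V₀ : Set X) V₀.2 hV₀.isCompact).image
        U.ι.continuous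
      rw [Set.image_preimage_eq_inter_range] at h
      have hr : Set.range U.ι = (U : Set X) := Scheme.Opens.range_ι U
      rw [hr] at h
      exact h
    have : CompactSpace (P : Scheme.{u}) := isCompact_iff_compactSpace.mp hP
    have : IsAffine (V₀ : Scheme.{u}) := hV₀
    let K₁ : Set (P : Scheme.{u}) := (((↑) : P → X) ⁻¹' (G' : Set X))ᶜ
    have hK₁ : IsClosed K₁ := (G'.2.preimage continuous_subtype_val).isClosed_compl
    have hx₁ : (⟨x, hxV₀⟩ : (V₀ : Scheme.{u})) ∈
        closure (X.homOfLE (inf_le_left : P ≤ V₀) '' K₁) := by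
      rw [(Scheme.Opens.ι V₀).isOpenEmbedding.isInducing.closure_eq_preimage_closure_image, Set.mem_preimage]
      refine closure_mono ?_ hxK
      rintro y ⟨hyP, hyG⟩
      refine ⟨_, ⟨⟨y, hyP⟩, hyG, rfl⟩, ?_⟩
      exact congrArg (fun φ : (P : Scheme.{u}) ⟶ X => φ ⟨y, hyP⟩) (X.homOfLE_ι inf_le_left)
    obtain ⟨e, he, hex⟩ := AffineNbhd.exists_specializes_of_mem_closure_image _ hK₁ hx₁
    have h2 : (e.1 : X) ⤳ x := by
      have h := hex.map (Scheme.Opens.ι V₀).continuous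
      rwa [show (Scheme.Opens.ι V₀) (X.homOfLE (inf_le_left : P ≤ V₀) e) = e.1 from
        congrArg (fun φ : (P : Scheme.{u}) ⟶ X => φ e) (X.homOfLE_ι inf_le_left)] at h
    have hmemZ : e.1 ∈ Z := hZ.mpr ⟨h2, fun h => hx (h ▸ e.2.2)⟩
    refine he ⟨⟨e.1, hZU _ hmemZ⟩, hZG _ (Finset.mem_image.mpr ⟨⟨e.1, hmemZ⟩, Finset.mem_univ _, rfl⟩), rfl⟩
  obtain ⟨g, hg, hxg⟩ := hV₀.exists_basicOpen_le (V := ⟨(closure K)ᶜ, isClosed_closure.isOpen_compl⟩)
    ⟨x, hxK⟩ hxV₀
  have hgV₀ : X.basicOpen g ≤ V₀ := X.basicOpen_le g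
  have hgU : X.basicOpen g ⊓ U ≤ G' := fun y hy => by
    by_contra h
    exact hg hy.1 (subset_closure ⟨⟨hgV₀ hy.1, hy.2⟩, h⟩)
  refine ⟨X.basicOpen g, fres hgV₀ t, hxg, fun y hy => honly y (hgV₀ hy), ?_, ?_⟩
  · refine Eq.trans ?_ (X.basicOpen_res t (homOfLE hgV₀).op).symm
    exact le_antisymm (le_inf inf_le_left (hgU.trans hG't)) (le_inf inf_le_left (inf_le_right.trans htU))
  · have hle : U.ι ⁻¹ᵁ (X.basicOpen g ⊓ U) ≤ G :=
      (U.ι.preimage_mono hgU).trans (U.ι.preimage_image_eq G).le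
    exact ⟨pres N hle ℓ, isBasis_pres hℓ hle⟩

end Groth.Agent.InvGlue
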